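import Cfsg.Agent.Lib.HeLocal.FusionBase

/-!
# The identification from a bare isomorphism of centralizers

The centre of the model has order two, so an isomorphism of `C(z)` with the centralizer of the transvection
sends `z` to it.
-/

set_option autoImplicit false

namespace Cfsg.Agent.HeLocal

open Subgroup
open Cfsg.Agent.InvChar.Coset.HeCent (SL5)

/-- A central involution of the model is the transvection. -/
theorem eq_zc_of_central {g : Mdl} (hg : IsInv g) (h : ∀ k, k * g = g * k) : g = zc := by
  refine eq_zc_of_tag hg ?_
  have htop : centralizer ({g} : Set Mdl) = ⊤ :=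
    (eq_top_iff' _).2 fun k => mem_centralizer_singleton_iff.2 (h k)
  have hc := card_cent_eq hg
  rw [htop, card_top, card_mdl] at hc
  have h8 := tag_lt hg
  generalize tag g = i at hc h8
  interval_cases i <;> simp_all

namespace Iso

variable {G : Type*} [Group G]

/-- An isomorphism of the centralizer with that of a transvection gives the identification. -/
theorem nonempty_ofEquiv (s : Matrix.SpecialLinearGroup (Fin 5) (ZMod 2))
    (hs : (s : Matrix (Fin 5) (Fin 5) (ZMod 2)) = Matrix.transvection 0 1 1) {z : G} (hz : orderOf z = 2)
    (e : ↥(centralizer ({z} : Set G)) ≃*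
      ↥(centralizer ({s} : Set (Matrix.SpecialLinearGroup (Fin 5) (ZMod 2))))) :
    Nonempty (Iso z) := by
  have hst : s = tau := Subtype.ext hs
  subst hst
  set w : ↥(centralizer ({z} : Set G)) := ⟨z, mem_centralizer_singleton_iff.2 rfl⟩ with hw
  have hcomm : ∀ k : Mdl, k * e w = e w * k := fun k => by
    refine e.symm.injective ?_
    rw [map_mul, map_mul, e.symm_apply_apply]
    exact Subtype.ext (mem_centralizer_singleton_iff.1 (e.symm k).2)
  have hinv : IsInv (e w) := by
    refine ⟨?_, fun h => ?_⟩
    · rw [← map_mul, ← map_one e]
      congr 1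
      refine Subtype.ext ?_
      show z * z = 1
      rw [← pow_two, ← hz, pow_orderOf_eq_one]
    · have h1 : z = 1 := congrArg Subtype.val (e.injective (h.trans (map_one e).symm))
      rw [h1, orderOf_one] at hz
      norm_num at hz
  refine ⟨{ e := e.symm, e_zc := ?_ }⟩
  rw [← eq_zc_of_central hinv hcomm, e.symm_apply_apply]

end Iso

end Cfsg.Agent.HeLocal
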