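import Cfsg.Agent.Lib.HeLocal.End.StabModel
import Cfsg.Agent.Lib.HeLocal.Pattern.Degenerate
import Cfsg.Agent.Solvable.Gaschutz

/-!
# The degenerate pattern gives the stabilizer of a vector

With one side fused only, the group of order sixteen is normal and self-centralizing, it has a complement
by the theorem of Gaschütz, and the group is the affine group.
-/

set_option autoImplicit false
set_option maxRecDepth 100000

namespace Cfsg.Agent.HeLocal.Iso

open Subgroup Aff Coords
open Cfsg.Agent.InvChar.Coset.HeCent (M5 SL5)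
open scoped Matrix

variable {G : Type*} [Group G] [Finite G] {z : G} (I : Iso z)

theorem cent_le_AG {h : G} (hh : ∀ y ∈ I.AG, h * y = y * h) : h ∈ I.AG := I.cent_AG hh

/-- The pattern with one side gives the stabilizer of a vector in `SL(5,2)`. -/
theorem stab_of_side (h1 : I.ZType (rep 1)) (hle : ∀ g : Mdl, I.ZType g → tag g ≤ 1) :
    ∃ v : Fin 5 → ZMod 2, v ≠ 0 ∧
      Nonempty (G ≃* MulAction.stabilizer (Matrix.SpecialLinearGroup (Fin 5) (ZMod 2)) v) := by
  classical
  haveI hn : I.AG.Normal := I.normal_AG h1 hle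
  have htop : I.HN = ⊤ := normalizer_eq_top _
  have h6 : ¬ I.ZType (rep 6) := fun h => by
    have := hle _ h
    rw [tag_rep (by norm_num)] at this
    omega
  have hG : Nat.card G = 322560 := by
    rw [← card_top (G := G), ← htop, I.card_HN_side h1 h6]
  haveI : IsMulCommutative I.AG := ⟨⟨fun x y => Subtype.ext (I.AG_comm x.2 y.2)⟩⟩
  -- the complement in the centralizer of `z`
  set U : Subgroup G := I.ι.range with hU
  set W : Subgroup G := rowSub.map I.ι with hW
  have hUcard : Nat.card U = 21504 := by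
    rw [hU, ← card_mdl]
    exact (Nat.card_congr (MonoidHom.ofInjective I.ι_inj).toEquiv).symm
  have hUidx : U.index = 15 := by
    have h := U.card_mul_index
    rw [hUcard, hG] at h
    omega
  have hKU : I.AG ≤ U := by
    rintro _ ⟨a, -, rfl⟩; exact ⟨a, rfl⟩
  have hWU : W ≤ U := by
    rintro _ ⟨a, -, rfl⟩; exact ⟨a, rfl⟩
  have hWK : W ⊓ I.AG = ⊥ := by
    rw [eq_bot_iff]
    rintro _ ⟨⟨k, hk, rfl⟩, hA⟩
    rw [mem_bot, rowSub_inA hk (I.ι_mem_AG.1 hA), map_one]
  have hKW : I.AG ⊔ W = U := by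
    refine le_antisymm (sup_le hKU hWU) ?_
    rintro _ ⟨g, rfl⟩
    obtain ⟨p, k, hp, hk, rfl⟩ := exists_rowSub g
    rw [map_mul]
    exact mul_mem (mem_sup_left (I.ι_mem_AG.2 hp)) (mem_sup_right ⟨k, hk, rfl⟩)
  obtain ⟨H, hH⟩ := Solvable.Gaschutz.exists_complement' (K := I.AG) (U := U) (A := W) hKU
    (by rw [I.card_AG, hUidx]; norm_num) hWU hWK hKW
  have hHcard : Nat.card H = 20160 := by
    have h := hH.card_mul_card
    rw [I.card_AG, hG] at h
    omega
  -- the linear part
  have hmem : ∀ g : G, g ∈ I.HN := fun g => htop ▸ mem_top g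
  let lH : ↥H →* GLV := I.lin.comp (inclusion fun g _ => hmem g)
  have hlinj : Function.Injective lH := by
    rw [injective_iff_map_eq_one]
    intro k hk
    have hA : (k : G) ∈ I.AG := I.cent_le_AG ((I.lin_eq_one_iff _).1 hk)
    have : (k : G) ∈ I.AG ⊓ H := ⟨hA, k.2⟩
    rw [hH.disjoint.eq_bot, mem_bot] at this
    exact Subtype.ext this
  have hlsurj : Function.Surjective lH := by
    rw [← MonoidHom.range_eq_top]
    refine Subgroup.eq_top_of_card_eq _ ?_
    rw [card_GLV, ← hHcard]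
    exact (Nat.card_congr (MonoidHom.ofInjective hlinj).toEquiv).symm
  -- the map on pairs
  have hbij : Function.Bijective fun p : I.AG × H => (p.1 : G) * p.2 := hH
  let dec : G ≃ I.AG × H := (Equiv.ofBijective _ hbij).symm
  have hdec : ∀ g, ((dec g).1 : G) * (dec g).2 = g := fun g => (Equiv.ofBijective _ hbij).apply_symm_apply g
  have huniq : ∀ (a : I.AG) (k : H), dec ((a : G) * k) = (a, k) := fun a k =>
    (Equiv.ofBijective _ hbij).symm_apply_apply (a, k)
  let vec : I.AG → V := fun a => (I.vG.symm a).toAdd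
  have hvec_mul : ∀ a b : I.AG, vec (a * b) = vec a + vec b := fun a b => by
    simp only [vec, map_mul, toAdd_mul]
  have hvec_conj : ∀ (k : H) (a : I.AG) (b : I.AG), (b : G) = k * a * (k : G)⁻¹ →
      vec b = (lH k).1 *ᵥ vec a := by
    intro k a b hb
    have h := I.lin_apply ⟨k, hmem k⟩ (vec a)
    have e : I.vG (Multiplicative.ofAdd (vec a)) = a := by simp [vec]
    rw [e, ← hb] at h
    have h' := congrArg (fun c => (I.vG.symm c).toAdd) (Subtype.ext h :
      I.vG (Multiplicative.ofAdd ((I.lin ⟨k, hmem k⟩).1 *ᵥ vec a)) = b)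
    simp only [MulEquiv.symm_apply_apply, toAdd_ofAdd] at h'
    exact h'.symm
  let φ : G → M5 := fun g => aff (vec (dec g).1) (lH (dec g).2)
  have hφ : ∀ g g' : G, φ (g * g') = φ g * φ g' := by
    intro g g'
    set a := (dec g).1
    set k := (dec g).2
    set a' := (dec g').1
    set k' := (dec g').2
    let b : I.AG := ⟨k * a' * (k : G)⁻¹, I.conj_mem_AG (hmem _) a'.2⟩
    have e : g * g' = ((a * b : I.AG) : G) * ((k * k' : H) : G) := by
      conv_lhs => rw [← hdec g, ← hdec g']
      show (a : G) * k * ((a' : G) * k') = (a : G) * ((k : G) * a' * (k : G)⁻¹) * ((k : G) * k')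
      group
    show aff (vec (dec (g * g')).1) (lH (dec (g * g')).2) = aff (vec a) (lH k) * aff (vec a') (lH k')
    rw [e, huniq, aff_mul, hvec_mul, hvec_conj k a' b rfl, map_mul]
  have hφ1 : φ 1 = 1 := by
    have e : dec 1 = (1, 1) := by rw [← huniq 1 1]; simp
    show aff (vec (dec 1).1) (lH (dec 1).2) = 1
    rw [e, map_one]
    show aff (I.vG.symm 1).toAdd 1 = 1
    rw [map_one, toAdd_one, aff_one]
  let Φ : G →* M5 := { toFun := φ, map_one' := hφ1, map_mul' := hφ }
  have hdet : ∀ g, (Φ g).det = 1 := by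
    intro g
    have hu : IsUnit (Φ g).det := by
      refine IsUnit.of_mul_eq_one (Φ g⁻¹).det ?_
      rw [← Matrix.det_mul, ← map_mul, mul_inv_cancel, map_one, Matrix.det_one]
    have h0 := hu.ne_zero
    generalize (Φ g).det = d at h0 ⊢
    fin_cases d
    · exact absurd rfl h0
    · rfl
  let e0 : Fin 5 → ZMod 2 := Pi.single 0 1
  let Ψ : G →* ↥(MulAction.stabilizer SL5 e0) :=
    { toFun := fun g => ⟨⟨Φ g, hdet g⟩, mat_fix _ _⟩
      map_one' := Subtype.ext (Subtype.ext Φ.map_one)
      map_mul' := fun g g' => Subtype.ext (Subtype.ext (Φ.map_mul g g')) }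
  refine ⟨e0, fun h => by simpa [e0] using congrFun h 0, ⟨MulEquiv.ofBijective Ψ ⟨fun g g' h => ?_, ?_⟩⟩⟩
  · have h' : aff (vec (dec g).1) (lH (dec g).2) = aff (vec (dec g').1) (lH (dec g').2) :=
      congrArg (fun x : ↥(MulAction.stabilizer SL5 e0) => ((x : SL5) : M5)) h
    obtain ⟨hv, hl⟩ := aff_inj h'
    exact dec.injective (Prod.ext (I.vG.symm.injective (Multiplicative.toAdd.injective hv)) (hlinj hl))
  · rintro ⟨⟨M, hM⟩, hMs⟩
    have hMv : M *ᵥ Pi.single 0 1 = (Pi.single 0 1 : Fin 5 → ZMod 2) := MulAction.mem_stabilizer_iff.1 hMs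
    let Ms : Matrix.SpecialLinearGroup (Fin 5) (ZMod 2) := ⟨M, hM⟩
    have hMN : M * (Ms⁻¹ : Matrix.SpecialLinearGroup (Fin 5) (ZMod 2)).1 = 1 := by
      rw [← Matrix.SpecialLinearGroup.coe_one, ← mul_inv_cancel Ms, Matrix.SpecialLinearGroup.coe_mul]
    obtain ⟨f, L, hfL⟩ := exists_aff hMN hMv
    obtain ⟨k, hk⟩ := hlsurj L
    refine ⟨(I.vG (Multiplicative.ofAdd f) : G) * k, Subtype.ext (Subtype.ext ?_)⟩
    show aff (vec (dec ((I.vG (Multiplicative.ofAdd f) : G) * k)).1)
      (lH (dec ((I.vG (Multiplicative.ofAdd f) : G) * k)).2) = M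
    rw [huniq, hk, ← hfL]
    simp [vec]

end Cfsg.Agent.HeLocal.Iso
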