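import Cfsg.Agent.Lib.HeLocal.FusionLinear

/-!
# The stabilizer of a vector in `SL(5,2)` as an affine group

The pair of a vector and a linear map of the four dimensional space, as a matrix fixing the first basis
vector; the complement of the group of order sixteen in the model.
-/

set_option autoImplicit false
set_option maxRecDepth 100000

namespace Cfsg.Agent.HeLocal.Aff

open Matrix Coords
open Cfsg.Agent.InvChar.Coset.HeCent (M5)

/-- The matrix with first row `(1, r)` and lower block `T`. -/
def mat (r : V) (T : Matrix (Fin 4) (Fin 4) (ZMod 2)) : M5 :=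
  Matrix.of fun i j => Fin.cases (Fin.cases 1 r j) (fun i' => Fin.cases 0 (T i') j) i

theorem mat_one : mat 0 1 = (1 : M5) := by
  decide +kernel

theorem mat_mul (r r' : V) (T T' : Matrix (Fin 4) (Fin 4) (ZMod 2)) :
    mat r T * mat r' T' = mat (r' + r ᵥ* T') (T * T') := by
  ext i j
  rw [Matrix.mul_apply, Fin.sum_univ_succ]
  refine Fin.cases ?_ (fun i' => ?_) i <;> refine Fin.cases ?_ (fun j' => ?_) j <;>
    simp [mat, Matrix.vecMul, dotProduct, Matrix.mul_apply]

theorem mat_inj {r r' : V} {T T' : Matrix (Fin 4) (Fin 4) (ZMod 2)} (h : mat r T = mat r' T') :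
    r = r' ∧ T = T' :=
  ⟨funext fun j => by simpa [mat] using congrFun (congrFun h 0) j.succ,
    Matrix.ext fun i j => by simpa [mat] using congrFun (congrFun h i.succ) j.succ⟩

theorem mat_fix (r : V) (T : Matrix (Fin 4) (Fin 4) (ZMod 2)) :
    mat r T *ᵥ Pi.single 0 1 = Pi.single 0 1 := by
  rw [Matrix.mulVec_single_one]
  ext i
  refine Fin.cases ?_ (fun i' => ?_) i <;> simp [mat]

theorem exists_mat {M : M5} (h : M *ᵥ Pi.single 0 1 = Pi.single 0 1) : ∃ r T, M = mat r T := by
  rw [Matrix.mulVec_single_one] at h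
  refine ⟨fun j => M 0 j.succ, fun i j => M i.succ j.succ, Matrix.ext fun i j => ?_⟩
  have hc : ∀ k, M k 0 = (Pi.single 0 1 : Fin 5 → ZMod 2) k := fun k => congrFun h k
  refine Fin.cases ?_ (fun i' => ?_) i <;> refine Fin.cases ?_ (fun j' => ?_) j <;>
    simp [mat, hc]

/-- The block of a linear map. -/
def blockOf (L : GLV) : Matrix (Fin 4) (Fin 4) (ZMod 2) := (L⁻¹ : GLV).1ᵀ

theorem blockOf_one : blockOf 1 = 1 := by simp [blockOf]

theorem blockOf_mul (L L' : GLV) : blockOf (L * L') = blockOf L * blockOf L' := by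
  simp only [blockOf, _root_.mul_inv_rev, Units.val_mul, Matrix.transpose_mul]

theorem blockOf_inj {L L' : GLV} (h : blockOf L = blockOf L') : L = L' :=
  inv_injective (Units.ext (Matrix.transpose_injective h))

/-- The matrix of an affine map. -/
def aff (f : V) (L : GLV) : M5 := mat (f ᵥ* blockOf L) (blockOf L)

theorem aff_one : aff 0 1 = (1 : M5) := by rw [aff, blockOf_one, Matrix.vecMul_one, mat_one]

theorem vecMul_blockOf (L : GLV) (f : V) : (L.1 *ᵥ f) ᵥ* blockOf L = f := by
  rw [blockOf, Matrix.vecMul_transpose, Matrix.mulVec_mulVec, ← Units.val_mul, inv_mul_cancel,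
    Units.val_one, Matrix.one_mulVec]

theorem aff_mul (f f' : V) (L L' : GLV) : aff f L * aff f' L' = aff (f + L.1 *ᵥ f') (L * L') := by
  rw [aff, aff, aff, mat_mul, blockOf_mul, Matrix.vecMul_vecMul, Matrix.add_vecMul,
    ← Matrix.vecMul_vecMul (L.1 *ᵥ f'), vecMul_blockOf, add_comm]

theorem aff_inj {f f' : V} {L L' : GLV} (h : aff f L = aff f' L') : f = f' ∧ L = L' := by
  obtain ⟨h1, h2⟩ := mat_inj h
  have hL := blockOf_inj h2
  subst hL
  refine ⟨?_, rfl⟩
  have := congrArg (fun r : V => r ᵥ* (L.1)ᵀ) h1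
  simpa only [blockOf, Matrix.vecMul_vecMul, ← Matrix.transpose_mul, ← Units.val_mul, mul_inv_cancel,
    Units.val_one, Matrix.transpose_one, Matrix.vecMul_one] using this

theorem exists_aff {M N : M5} (hMN : M * N = 1) (hM : M *ᵥ Pi.single 0 1 = Pi.single 0 1) :
    ∃ f L, aff f L = M := by
  have hNM : N * M = 1 := mul_eq_one_comm.1 hMN
  have hN : N *ᵥ Pi.single 0 1 = Pi.single 0 1 := by
    conv_lhs => rw [← hM, Matrix.mulVec_mulVec, hNM, Matrix.one_mulVec]
  obtain ⟨r, T, rfl⟩ := exists_mat hM
  obtain ⟨r', T', rfl⟩ := exists_mat hN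
  rw [mat_mul, ← mat_one] at hMN hNM
  have hT : T * T' = 1 := (mat_inj hMN).2
  have hT' : T' * T = 1 := (mat_inj hNM).2
  let L : GLV := ⟨T'ᵀ, Tᵀ, by rw [← Matrix.transpose_mul, hT, Matrix.transpose_one],
    by rw [← Matrix.transpose_mul, hT', Matrix.transpose_one]⟩
  refine ⟨r ᵥ* T', L, ?_⟩
  have hb : blockOf L = T := Matrix.transpose_transpose T
  rw [aff, hb, Matrix.vecMul_vecMul, hT', Matrix.vecMul_one]

end Cfsg.Agent.HeLocal.Aff

namespace Cfsg.Agent.HeLocal

open Code

/-- The codes whose first row is the first basis vector. -/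
def rowCode (a : ℕ) : Bool := Nat.beq (Nat.land a 31) 1

theorem rowCode_spec : (∀ p ∈ listA, rowCode p = true → Nat.beq p Cfsg.Agent.InvChar.Coset.HeCent.idP = true) ∧
    rowCode Cfsg.Agent.InvChar.Coset.HeCent.idP = true := by
  decide +kernel

theorem rowCode_mul {a b : ℕ} (ha : rowCode a = true) : Nat.land (mulF a b) 31 = Nat.land (combF 1 b) 31 := by
  have h : rowAt a 0 = 1 := by
    show Nat.land (Nat.shiftRight a 0) 31 = 1
    exact Nat.eq_of_beq_eq_true ha
  rw [mulF, h]
  show (Nat.add (combF 1 b) _) &&& 31 = combF 1 b &&& 31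
  rw [show (31 : ℕ) = 2 ^ 5 - 1 by norm_num, Nat.and_two_pow_sub_one_eq_mod, Nat.and_two_pow_sub_one_eq_mod]
  exact Nat.add_mul_mod_self_left _ 32 _

set_option maxHeartbeats 0 in
-- a pass over the codes
theorem rowCode_check : allC (fun b => Nat.beq (Nat.land (combF 1 b) 31) (Nat.land b 31) &&
    listA.any fun p => rowCode (mulF p b)) = true := by
  decide +kernel

/-- A complement of the group of order sixteen in the model. -/
def rowSub : Subgroup Mdl where
  carrier := {g | rowCode (code g) = true}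
  one_mem' := by show rowCode (code 1) = true; rw [code_one]; exact rowCode_spec.2
  mul_mem' := by
    intro g k hg hk
    show rowCode (code (g * k)) = true
    have h := forall_codes rowCode_check k
    rw [Bool.and_eq_true] at h
    rw [code_mul, rowCode, rowCode_mul hg, Nat.eq_of_beq_eq_true h.1]
    exact hk
  inv_mem' := by
    intro g hg
    show rowCode (code g⁻¹) = true
    have h := forall_codes rowCode_check g⁻¹
    rw [Bool.and_eq_true] at h
    have e : rowCode (code (g * g⁻¹)) = true := by rw [mul_inv_cancel, code_one]; exact rowCode_spec.2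
    rw [code_mul, rowCode, rowCode_mul hg, Nat.eq_of_beq_eq_true h.1] at e
    exact e

theorem rowSub_inA {g : Mdl} (hg : g ∈ rowSub) (hA : inA g) : g = 1 :=
  code_inj (by rw [code_one]; exact Nat.eq_of_beq_eq_true (rowCode_spec.1 _ hA hg))

theorem exists_rowSub (g : Mdl) : ∃ p k : Mdl, inA p ∧ k ∈ rowSub ∧ p * k = g := by
  have h := forall_codes rowCode_check g
  rw [Bool.and_eq_true, List.any_eq_true] at h
  obtain ⟨p, hp, hr⟩ := h.2
  have hk := (listA_spec hp).1
  have hA : inA (el p) := by rw [inA, code_el hk]; exact hp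
  refine ⟨el p, el p * g, hA, ?_, by rw [← mul_assoc, inA_sq hA, one_mul]⟩
  show rowCode (code (el p * g)) = true
  rw [code_mul, code_el hk]
  exact hr

end Cfsg.Agent.HeLocal
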